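import Groth.Agent.Lib.Helper16.DimShift.Basic
import Groth.Agent.Lib.Helper16.HalfExact.Basic
import Groth.Agent.Lib.Helper73.LeftDerivedLES

/-!
# `Tor_p(M, -)` (second variable) and powers of an ideal killing `M` (helper16)

* `hyp_torSnd` : `N ↦ Tor_p(M, N)` (Mathlib's `Tor`, derived in the second variable) satisfies the
  hypotheses `HalfExact.Hyp I` for every ideal `I` killing `M`.
* `torSnd_map_mapQ_eq_zero` : dimension shifting along `0 → N → A → A/N → 0`.
* `exists_tor_map_mapQ_pow_eq_zero` : for `A` Noetherian, an ideal `I` and `m`, there is `c` such that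
  for all `M` killed by `I ^ m`, all `i` and all `n ≥ c` the map
  `Tor_{i+1}(M, A/I^n) → Tor_{i+1}(M, A/I^{n-c})` vanishes.
-/

set_option autoImplicit false
universe u
open CategoryTheory CategoryTheory.Limits MonoidalCategory

noncomputable section

namespace Groth.Agent.Lib.Helper16

namespace DimShift

open HalfExact Groth.Agent.Lib.Helper73

variable {A : Type u} [CommRing A]

/-- `N ↦ Tor_p(M, N)`. -/
abbrev torSnd (M : ModuleCat.{u} A) (p : ℕ) : ModuleCat.{u} A ⥤ ModuleCat.{u} A :=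
  (Tor (ModuleCat.{u} A) p).obj M

lemma torSnd_eq (M : ModuleCat.{u} A) (p : ℕ) :
    torSnd M p = ((tensoringLeft (ModuleCat.{u} A)).obj M).leftDerived p := rfl

lemma smul_id_tensor_eq_zero (M Y : ModuleCat.{u} A) (a : A) (ha : ∀ y : M, a • y = 0) :
    a • 𝟙 (M ⊗ Y) = 0 := by
  have h0 : a • 𝟙 M = 0 := by
    apply ModuleCat.hom_ext
    apply LinearMap.ext
    intro y
    exact ha y
  rw [← id_whiskerRight, ← MonoidalLinear.smul_whiskerRight, h0,
    MonoidalPreadditive.zero_whiskerRight]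

set_option backward.isDefEq.respectTransparency false in
lemma torSnd_map_smul_id (M : ModuleCat.{u} A) (p : ℕ) (a : A) (ha : ∀ y : M, a • y = 0)
    (X : ModuleCat.{u} A) : (torSnd M p).map (a • 𝟙 X) = 0 := by
  let F := (tensoringLeft (ModuleCat.{u} A)).obj M
  let P := projectiveResolution X
  have comm : (a • 𝟙 P.complex : P.complex ⟶ P.complex).f 0 ≫ P.π.f 0 =
      P.π.f 0 ≫ (a • 𝟙 X) := by
    rw [HomologicalComplex.smul_f_apply, HomologicalComplex.id_f, Linear.smul_comp,
      Category.id_comp, Linear.comp_smul]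
    exact congrArg (a • ·) (Category.comp_id _).symm
  have h1 := ProjectiveResolution.isoLeftDerivedObj_hom_naturality (a • 𝟙 X) P P
    (a • 𝟙 P.complex) comm F p
  have h2 : (F.mapHomologicalComplex (ComplexShape.down ℕ)).map (a • 𝟙 P.complex) = 0 := by
    ext i : 1
    change M ◁ ((a • 𝟙 P.complex : P.complex ⟶ P.complex).f i) = 0
    rw [HomologicalComplex.smul_f_apply, HomologicalComplex.id_f, MonoidalLinear.whiskerLeft_smul,
      whiskerLeft_id]
    exact smul_id_tensor_eq_zero M _ a ha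
  rw [Functor.comp_map, h2, Functor.map_zero, comp_zero] at h1
  show (F.leftDerived p).map (a • 𝟙 X) = 0
  rw [← cancel_mono (P.isoLeftDerivedObj F p).hom, zero_comp]
  exact h1

set_option backward.isDefEq.respectTransparency false in
lemma torSnd_map_zero (M : ModuleCat.{u} A) (p : ℕ) (X Y : ModuleCat.{u} A) :
    (torSnd M p).map (0 : X ⟶ Y) = 0 := by
  let F := (tensoringLeft (ModuleCat.{u} A)).obj M
  let P := projectiveResolution X
  let P' := projectiveResolution Y
  have comm : (0 : P.complex ⟶ P'.complex).f 0 ≫ P'.π.f 0 = P.π.f 0 ≫ (0 : X ⟶ Y) := by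
    rw [HomologicalComplex.zero_f, zero_comp, comp_zero]
  have h1 := ProjectiveResolution.isoLeftDerivedObj_hom_naturality (0 : X ⟶ Y) P P'
    (0 : P.complex ⟶ P'.complex) comm F p
  have h0 : (F.mapHomologicalComplex (ComplexShape.down ℕ) ⋙
      HomologicalComplex.homologyFunctor _ _ p).map (0 : P.complex ⟶ P'.complex) = 0 := by
    rw [Functor.comp_map, Functor.map_zero, Functor.map_zero]
  rw [h0, comp_zero] at h1
  show (F.leftDerived p).map (0 : X ⟶ Y) = 0
  rw [← cancel_mono (P'.isoLeftDerivedObj F p).hom, zero_comp]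
  exact h1

/-- `Tor_p(M, -)` satisfies the hypotheses of the dévissage theorem for every ideal killing
`M`. -/
theorem hyp_torSnd (I : Ideal A) (M : ModuleCat.{u} A) (hM : ∀ a ∈ I, ∀ y : M, a • y = 0)
    (p : ℕ) : Hyp I (torSnd M p) where
  zero X Y := torSnd_map_zero M p X Y
  half {X₁ X₂ X₃} _ _ _ _ _ _ f g hf hg hfg x hx := by
    let S : ShortComplex (ModuleCat.{u} A) :=
      ShortComplex.mk (ModuleCat.ofHom f) (ModuleCat.ofHom g)
        (by
          apply ModuleCat.hom_ext
          apply LinearMap.ext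
          intro z
          exact hfg.apply_apply_eq_zero z)
    have hS : S.ShortExact := ModuleCat.shortComplex_shortExact S hfg hf hg
    have E := LeftDerivedLES.exact₂ ((tensoringLeft (ModuleCat.{u} A)).obj M) hS p
    rw [ShortComplex.moduleCat_exact_iff] at E
    exact E x hx
  kill a ha X _ _ := by
    have : ModuleCat.ofHom (a • LinearMap.id : X →ₗ[A] X) = a • 𝟙 (ModuleCat.of A X) := rfl
    rw [this]
    exact torSnd_map_smul_id M p a (hM a ha) _

section shift

variable (N N' : Submodule A A) (hNN' : N ≤ N')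

/-- The short complex `0 → N → A → A/N → 0`. -/
def idealSC : ShortComplex (ModuleCat.{u} A) :=
  ShortComplex.mk (ModuleCat.ofHom N.subtype) (ModuleCat.ofHom N.mkQ)
    (by
      apply ModuleCat.hom_ext
      apply LinearMap.ext
      intro z
      exact (LinearMap.exact_subtype_mkQ N).apply_apply_eq_zero z)

lemma idealSC_shortExact : (idealSC N).ShortExact :=
  ModuleCat.shortComplex_shortExact _ (LinearMap.exact_subtype_mkQ N)
    (Submodule.injective_subtype N) (Submodule.mkQ_surjective N)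

instance : Projective (idealSC N).X₂ :=
  inferInstanceAs (Projective (ModuleCat.of A A))

/-- The morphism of short complexes induced by `N ≤ N'`. -/
def idealSCMap : idealSC N ⟶ idealSC N' where
  τ₁ := ModuleCat.ofHom (Submodule.inclusion hNN')
  τ₂ := 𝟙 _
  τ₃ := ModuleCat.ofHom (Submodule.mapQ N N' LinearMap.id hNN')
  comm₁₂ := by
    apply ModuleCat.hom_ext
    apply LinearMap.ext
    intro z
    rfl
  comm₂₃ := by
    apply ModuleCat.hom_ext
    apply LinearMap.ext
    intro z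
    rfl

/-- Dimension shifting: if `Tor_p(M, N) → Tor_p(M, N')` vanishes then so does
`Tor_{p+1}(M, A/N) → Tor_{p+1}(M, A/N')`. -/
theorem torSnd_map_mapQ_eq_zero (M : ModuleCat.{u} A) (p : ℕ)
    (h : (torSnd M p).map (ModuleCat.ofHom (Submodule.inclusion hNN')) = 0) :
    (torSnd M (p + 1)).map (ModuleCat.ofHom (Submodule.mapQ N N' LinearMap.id hNN')) = 0 :=
  leftDerived_map_eq_zero_of_syzygy ((tensoringLeft (ModuleCat.{u} A)).obj M)
    (idealSC_shortExact N) (idealSC_shortExact N') (idealSCMap N N' hNN') p h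

end shift

section main

variable [IsNoetherianRing A]

omit [IsNoetherianRing A] in
lemma pw_self_eq (J : Ideal A) (j : ℕ) : pw J A j = J ^ j := by
  show J ^ j • (⊤ : Ideal A) = J ^ j
  rw [smul_eq_mul, Ideal.mul_top]

/-- **Uniform vanishing of Tor maps for modules of bounded torsion.**  For a Noetherian ring `A`,
an ideal `I` and `m ≥ 0` there is `c` such that for every module `M` killed by `I ^ m`, every
`i ≥ 0` and every `n ≥ c` the map `Tor_{i+1}(M, A/I^n) → Tor_{i+1}(M, A/I^{n-c})` is zero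
(`c` does not depend on `i`). -/
theorem exists_tor_map_mapQ_pow_eq_zero (I : Ideal A) (m : ℕ) :
    ∃ c : ℕ, ∀ (M : Type u) [AddCommGroup M] [Module A M],
      (∀ a ∈ I ^ m, ∀ x : M, a • x = 0) → ∀ (i n : ℕ) (_ : c ≤ n),
      ((Tor (ModuleCat.{u} A) (i + 1)).obj (ModuleCat.of A M)).map
        (ModuleCat.ofHom (Submodule.mapQ (I ^ n) (I ^ (n - c)) LinearMap.id
          (Ideal.pow_le_pow_right (Nat.sub_le n c)))) = 0 := by
  obtain ⟨n₀, _, hQ⟩ := exists_Q (I ^ (m + 1)) A
  refine ⟨(m + 1) * (n₀ + 1), ?_⟩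
  intro M _ _ hM i n hn
  have hMJ : ∀ a ∈ I ^ (m + 1), ∀ y : (ModuleCat.of A M), a • y = 0 :=
    fun a ha y => hM a (Ideal.pow_le_pow_right (Nat.le_succ m) ha) y
  have hT := hyp_torSnd (I ^ (m + 1)) (ModuleCat.of A M) hMJ i
  obtain ⟨j, hj⟩ : ∃ j, j = n / (m + 1) := ⟨_, rfl⟩
  obtain ⟨k, hk0⟩ : ∃ k, k = j - n₀ := ⟨_, rfl⟩
  have hj1 : (m + 1) * j ≤ n := by rw [hj]; exact Nat.mul_div_le n (m + 1)
  have hj2 : n < (m + 1) * (j + 1) := by
    rw [hj]; exact Nat.lt_mul_div_succ n (Nat.succ_pos m)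
  have hj3 : n₀ + 1 ≤ j := by
    rw [hj]
    exact (Nat.le_div_iff_mul_le (Nat.succ_pos m)).2 (by rw [mul_comm]; exact hn)
  have hk : n₀ + k ≤ j := by omega
  have hk2 : n - (m + 1) * (n₀ + 1) ≤ (m + 1) * k := by
    have e1 : (m + 1) * (j + 1) = (m + 1) * j + (m + 1) := by ring
    have e2 : (m + 1) * (n₀ + 1) = (m + 1) * n₀ + (m + 1) := by ring
    have e3 : (m + 1) * k + (m + 1) * n₀ = (m + 1) * j := by
      rw [← Nat.mul_add]
      congr 1
      omega
    omega
  have hjk : pw (I ^ (m + 1)) A j ≤ pw (I ^ (m + 1)) A k :=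
    pw_anti _ _ (le_trans (Nat.le_add_left k n₀) hk)
  have Z : (torSnd (ModuleCat.of A M) i).map (ModuleCat.ofHom (Submodule.inclusion hjk)) = 0 :=
    hQ (torSnd _ i) hT j k hk
  have Z' := torSnd_map_mapQ_eq_zero _ _ hjk (ModuleCat.of A M) i Z
  have h1 : I ^ n ≤ pw (I ^ (m + 1)) A j := by
    rw [pw_self_eq, ← pow_mul]
    exact Ideal.pow_le_pow_right hj1
  have h2 : pw (I ^ (m + 1)) A k ≤ I ^ (n - (m + 1) * (n₀ + 1)) := by
    rw [pw_self_eq, ← pow_mul]
    exact Ideal.pow_le_pow_right hk2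
  have hfac : Submodule.mapQ (I ^ n) (I ^ (n - (m + 1) * (n₀ + 1))) LinearMap.id
      (Ideal.pow_le_pow_right (Nat.sub_le n ((m + 1) * (n₀ + 1)))) =
      (Submodule.mapQ (pw (I ^ (m + 1)) A k) (I ^ (n - (m + 1) * (n₀ + 1))) LinearMap.id h2) ∘ₗ
        ((Submodule.mapQ (pw (I ^ (m + 1)) A j) (pw (I ^ (m + 1)) A k) LinearMap.id hjk) ∘ₗ
          (Submodule.mapQ (I ^ n) (pw (I ^ (m + 1)) A j) LinearMap.id h1)) := by
    apply LinearMap.ext
    intro x
    obtain ⟨x, rfl⟩ := Submodule.mkQ_surjective _ x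
    rfl
  rw [hfac, ModuleCat.ofHom_comp, ModuleCat.ofHom_comp, Functor.map_comp, Functor.map_comp]
  have Z'' : ((Tor (ModuleCat.{u} A) (i + 1)).obj (ModuleCat.of A M)).map
      (ModuleCat.ofHom (Submodule.mapQ (pw (I ^ (m + 1)) A j) (pw (I ^ (m + 1)) A k)
        LinearMap.id hjk)) = 0 := Z'
  rw [Z'', comp_zero, zero_comp]

end main

end DimShift

end Groth.Agent.Lib.Helper16
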