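import Mathlib

/-!
# Natural dimension shifting for left derived functors (helper16)

For a short exact sequence `0 → K → E → N → 0` with `E` projective and a projective resolution
`Q` of `K`, the augmented complex `… → Q₁ → Q₀ → E` is a projective resolution of `N`.  This gives a
dimension shifting statement for left derived functors which is *natural* for morphisms of such
short exact sequences:

* `leftDerived_map_eq_zero_of_syzygy` : for a morphism `φ : S ⟶ S'` of short exact sequences with
  projective middle terms and an additive functor `F` to a module category,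
  `(L_i F)(φ.τ₁) = 0 → (L_{i+1} F)(φ.τ₃) = 0` (for every `i ≥ 0`).
-/

set_option autoImplicit false
universe v u v' u'
open CategoryTheory CategoryTheory.Limits

noncomputable section

set_option backward.isDefEq.respectTransparency false

namespace Groth.Agent.Lib.Helper16

namespace DimShift

section augment

variable {C : Type u} [Category.{v} C] [HasZeroMorphisms C]

/-- A morphism between augmented chain complexes. -/
def augmentMap {K L : ChainComplex C ℕ} {X Y : C} (f : K.X 0 ⟶ X) (w : K.d 1 0 ≫ f = 0)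
    (g : L.X 0 ⟶ Y) (w' : L.d 1 0 ≫ g = 0) (ψ : K ⟶ L) (ε : X ⟶ Y)
    (h : f ≫ ε = ψ.f 0 ≫ g) : K.augment f w ⟶ L.augment g w' where
  f
    | 0 => ε
    | i + 1 => ψ.f i
  comm' := by
    intro i j hij
    obtain rfl : j + 1 = i := hij
    cases j with
    | zero => exact h.symm
    | succ j =>
      change ψ.f (j + 1) ≫ (L.augment g w').d (j + 1 + 1) (j + 1) =
        (K.augment f w).d (j + 1 + 1) (j + 1) ≫ ψ.f j
      rw [ChainComplex.augment_d_succ_succ, ChainComplex.augment_d_succ_succ]
      exact ψ.comm (j + 1) j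

@[simp]
lemma augmentMap_f_zero {K L : ChainComplex C ℕ} {X Y : C} (f : K.X 0 ⟶ X) (w : K.d 1 0 ≫ f = 0)
    (g : L.X 0 ⟶ Y) (w' : L.d 1 0 ≫ g = 0) (ψ : K ⟶ L) (ε : X ⟶ Y)
    (h : f ≫ ε = ψ.f 0 ≫ g) : (augmentMap f w g w' ψ ε h).f 0 = ε := rfl

@[simp]
lemma augmentMap_f_succ {K L : ChainComplex C ℕ} {X Y : C} (f : K.X 0 ⟶ X) (w : K.d 1 0 ≫ f = 0)
    (g : L.X 0 ⟶ Y) (w' : L.d 1 0 ≫ g = 0) (ψ : K ⟶ L) (ε : X ⟶ Y)
    (h : f ≫ ε = ψ.f 0 ≫ g) (i : ℕ) : (augmentMap f w g w' ψ ε h).f (i + 1) = ψ.f i := rfl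

end augment

section resolution

variable {C : Type u} [Category.{v} C] [Abelian C]
variable {S : ShortComplex C} (hS : S.ShortExact) (Q : ProjectiveResolution S.X₁)

/-- The differential `Q₀ → K → E`. -/
abbrev aug₀ : Q.complex.X 0 ⟶ S.X₂ := Q.π.f 0 ≫ S.f

lemma d_aug₀ : Q.complex.d 1 0 ≫ aug₀ Q = 0 := by
  rw [aug₀, Q.complex_d_comp_π_f_zero_assoc, zero_comp]

/-- The augmented complex `… → Q₁ → Q₀ → E`. -/
def augCx : ChainComplex C ℕ := Q.complex.augment (aug₀ Q) (d_aug₀ Q)

lemma augCx_d_one_zero : (augCx Q).d 1 0 = aug₀ Q := rfl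

lemma augCx_d_succ_succ (i j : ℕ) : (augCx Q).d (i + 1) (j + 1) = Q.complex.d i j :=
  ChainComplex.augment_d_succ_succ _ _ _ i j

/-- The augmentation `E → N` as a chain map. -/
def augπ : augCx Q ⟶ (ChainComplex.single₀ C).obj S.X₃ :=
  (ChainComplex.toSingle₀Equiv _ _).symm ⟨S.g, by
    rw [augCx_d_one_zero, aug₀, Category.assoc, S.zero, comp_zero]⟩

lemma augπ_f_zero : (augπ Q).f 0 = S.g := by
  simp [augπ]

include hS in
lemma augCx_exactAt_succ (n : ℕ) : (augCx Q).ExactAt (n + 1) := by
  have : Mono S.f := hS.mono_f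
  cases n with
  | zero =>
    rw [HomologicalComplex.exactAt_iff' _ 2 1 0 (by simp) (by simp)]
    refine (ShortComplex.exact_iff_of_epi_of_isIso_of_mono
      (S₁ := ShortComplex.mk _ _ Q.complex_d_comp_π_f_zero)
      (S₂ := (augCx Q).sc' 2 1 0)
      { τ₁ := 𝟙 _
        τ₂ := 𝟙 _
        τ₃ := S.f
        comm₁₂ := by
          dsimp
          rw [Category.id_comp, Category.comp_id]
          exact (augCx_d_succ_succ Q 1 0).symm
        comm₂₃ := by
          dsimp
          rw [Category.id_comp]
          rfl }).1 Q.exact₀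
  | succ n =>
    rw [HomologicalComplex.exactAt_iff' _ (n + 3) (n + 2) (n + 1) (by simp) (by simp)]
    refine (ShortComplex.exact_iff_of_iso ?_).1 (Q.exact_succ n)
    refine ShortComplex.isoMk (Iso.refl _) (Iso.refl _) (Iso.refl _) ?_ ?_
    · dsimp
      rw [Category.id_comp, Category.comp_id]
      exact (augCx_d_succ_succ Q (n + 2) (n + 1)).symm
    · dsimp
      rw [Category.id_comp, Category.comp_id]
      exact (augCx_d_succ_succ Q (n + 1) n).symm

include hS in
lemma quasiIso_augπ : QuasiIso (augπ Q) := ⟨fun n => by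
  have : Epi S.g := hS.epi_g
  cases n with
  | zero =>
    rw [ChainComplex.quasiIsoAt₀_iff, ShortComplex.quasiIso_iff_of_zeros']
    · refine (ShortComplex.exact_and_epi_g_iff_of_iso ?_).2
        (⟨(ShortComplex.exact_iff_of_epi_of_isIso_of_mono
          (S₁ := ShortComplex.mk (aug₀ Q) S.g (by rw [aug₀, Category.assoc, S.zero, comp_zero]))
          (S₂ := S)
          { τ₁ := Q.π.f 0
            τ₂ := 𝟙 _
            τ₃ := 𝟙 _
            comm₁₂ := by dsimp; rw [Category.comp_id]
            comm₂₃ := by dsimp; rw [Category.comp_id, Category.id_comp] }).2 hS.exact,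
          inferInstance⟩ : _ ∧ Epi S.g)
      exact ShortComplex.isoMk (Iso.refl _) (Iso.refl _) (Iso.refl _)
        (by simp [augCx_d_one_zero]) (by simp [augπ_f_zero])
    all_goals rfl
  | succ n =>
    rw [quasiIsoAt_iff_exactAt']
    · exact augCx_exactAt_succ hS Q n
    · exact ChainComplex.exactAt_succ_single_obj _ _⟩

/-- The augmented complex as a projective resolution of `N = S.X₃`. -/
def augRes [Projective S.X₂] : ProjectiveResolution S.X₃ where
  complex := augCx Q
  projective := by
    intro n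
    cases n with
    | zero => exact inferInstanceAs (Projective S.X₂)
    | succ n => exact inferInstanceAs (Projective (Q.complex.X n))
  π := augπ Q
  quasiIso := quasiIso_augπ hS Q

end resolution

section elementwise

variable {R : Type u'} [Ring R] {ι : Type*} {c : ComplexShape ι}

/-- Elementwise criterion for the vanishing of a map on homology of complexes of modules. -/
lemma homologyMap_eq_zero_iff {K L : HomologicalComplex (ModuleCat.{v'} R) c} (φ : K ⟶ L)
    (i j k : ι) (hi : c.prev j = i) (hk : c.next j = k) :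
    HomologicalComplex.homologyMap φ j = 0 ↔
      ∀ z : K.X j, (K.d j k).hom z = 0 → ∃ w : L.X i, (L.d i j).hom w = (φ.f j).hom z := by
  constructor
  · intro h z hz
    have E1 : (ShortComplex.mk (K.iCycles j) (K.d j k) (K.iCycles_d j k)).Exact :=
      ShortComplex.exact_of_f_is_kernel _ (K.cyclesIsKernel j k hk)
    rw [ShortComplex.moduleCat_exact_iff] at E1
    obtain ⟨x, hx⟩ := E1 z hz
    have E2 : (ShortComplex.mk (L.toCycles i j) (L.homologyπ j)
        (L.toCycles_comp_homologyπ i j)).Exact :=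
      ShortComplex.exact_of_g_is_cokernel _ (L.homologyIsCokernel i j hi)
    rw [ShortComplex.moduleCat_exact_iff] at E2
    have h0 : (L.homologyπ j).hom ((HomologicalComplex.cyclesMap φ j).hom x) = 0 := by
      have e := congrArg (fun t : K.cycles j ⟶ L.homology j => t.hom x)
        (HomologicalComplex.homologyπ_naturality φ j)
      have e' : (L.homologyπ j).hom ((HomologicalComplex.cyclesMap φ j).hom x) =
          (HomologicalComplex.homologyMap φ j).hom ((K.homologyπ j).hom x) := e.symm
      rw [e', h]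
      rfl
    obtain ⟨w, hw⟩ := E2 _ h0
    refine ⟨w, ?_⟩
    have e1 : (L.iCycles j).hom ((L.toCycles i j).hom w) = (L.d i j).hom w :=
      congrArg (fun t : L.X i ⟶ L.X j => t.hom w) (L.toCycles_i i j)
    have e2 : (L.iCycles j).hom ((HomologicalComplex.cyclesMap φ j).hom x) =
        (φ.f j).hom ((K.iCycles j).hom x) :=
      congrArg (fun t : K.cycles j ⟶ L.X j => t.hom x) (HomologicalComplex.cyclesMap_i φ j)
    have hx' : (K.iCycles j).hom x = z := hx
    have hw' : (L.toCycles i j).hom w = (HomologicalComplex.cyclesMap φ j).hom x := hw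
    rw [← e1, hw', e2, hx']
  · intro h
    rw [← cancel_epi (K.homologyπ j), HomologicalComplex.homologyπ_naturality, comp_zero]
    ext x
    have hx : (K.d j k).hom ((K.iCycles j).hom x) = 0 :=
      congrArg (fun t : K.cycles j ⟶ K.X k => t.hom x) (K.iCycles_d j k)
    obtain ⟨w, hw⟩ := h _ hx
    have h1 : (HomologicalComplex.cyclesMap φ j).hom x = (L.toCycles i j).hom w := by
      have hinj : Function.Injective (L.iCycles j).hom :=
        (ModuleCat.mono_iff_injective _).mp inferInstance
      apply hinj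
      have e1 : (L.iCycles j).hom ((L.toCycles i j).hom w) = (L.d i j).hom w :=
        congrArg (fun t : L.X i ⟶ L.X j => t.hom w) (L.toCycles_i i j)
      have e2 : (L.iCycles j).hom ((HomologicalComplex.cyclesMap φ j).hom x) =
          (φ.f j).hom ((K.iCycles j).hom x) :=
        congrArg (fun t : K.cycles j ⟶ L.X j => t.hom x) (HomologicalComplex.cyclesMap_i φ j)
      rw [e1, e2, hw]
    show (L.homologyπ j).hom ((HomologicalComplex.cyclesMap φ j).hom x) = 0
    rw [h1]
    exact congrArg (fun t : L.X i ⟶ L.homology j => t.hom w) (L.toCycles_comp_homologyπ i j)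

end elementwise

section main

variable {C : Type u} [Category.{v} C] [Abelian C] [HasProjectiveResolutions C]
variable {R : Type u'} [Ring R] (F : C ⥤ ModuleCat.{v'} R) [F.Additive]

/-- **Natural dimension shifting.**  For a morphism `φ : S ⟶ S'` of short exact sequences with
projective middle terms, if `L_i F` kills `φ.τ₁` then `L_{i+1} F` kills `φ.τ₃`. -/
theorem leftDerived_map_eq_zero_of_syzygy {S S' : ShortComplex C} (hS : S.ShortExact)
    (hS' : S'.ShortExact) [Projective S.X₂] [Projective S'.X₂] (φ : S ⟶ S') (i : ℕ)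
    (h : (F.leftDerived i).map φ.τ₁ = 0) : (F.leftDerived (i + 1)).map φ.τ₃ = 0 := by
  let Q := projectiveResolution S.X₁
  let Q' := projectiveResolution S'.X₁
  let ψ := ProjectiveResolution.lift φ.τ₁ Q Q'
  have hψ : ψ.f 0 ≫ Q'.π.f 0 = Q.π.f 0 ≫ φ.τ₁ := ProjectiveResolution.lift_commutes_zero _ _ _
  have hcomm : aug₀ Q ≫ φ.τ₂ = ψ.f 0 ≫ aug₀ Q' := by
    rw [aug₀, aug₀, Category.assoc, ← φ.comm₁₂, ← Category.assoc, ← hψ, Category.assoc]
  let Φ : augCx Q ⟶ augCx Q' := augmentMap _ (d_aug₀ Q) _ (d_aug₀ Q') ψ φ.τ₂ hcomm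
  have hΦ : Φ.f 0 ≫ (augRes hS' Q').π.f 0 = (augRes hS Q).π.f 0 ≫ φ.τ₃ := by
    show φ.τ₂ ≫ (augπ Q').f 0 = (augπ Q).f 0 ≫ φ.τ₃
    rw [augπ_f_zero, augπ_f_zero, φ.comm₂₃]
  have h1 := ProjectiveResolution.isoLeftDerivedObj_hom_naturality φ.τ₁ Q Q' ψ hψ F i
  rw [h, zero_comp] at h1
  have h1' : HomologicalComplex.homologyMap
      ((F.mapHomologicalComplex (ComplexShape.down ℕ)).map ψ) i = 0 := by
    rw [← cancel_epi (Q.isoLeftDerivedObj F i).hom, comp_zero]
    exact h1.symm
  have h2 := ProjectiveResolution.isoLeftDerivedObj_hom_naturality φ.τ₃ (augRes hS Q)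
    (augRes hS' Q') Φ hΦ F (i + 1)
  suffices hs : HomologicalComplex.homologyMap
      ((F.mapHomologicalComplex (ComplexShape.down ℕ)).map Φ) (i + 1) = 0 by
    have h3 : (F.leftDerived (i + 1)).map φ.τ₃ ≫
        ((augRes hS' Q').isoLeftDerivedObj F (i + 1)).hom = 0 := by
      rw [h2]
      show _ ≫ HomologicalComplex.homologyMap
        ((F.mapHomologicalComplex (ComplexShape.down ℕ)).map Φ) (i + 1) = 0
      rw [hs, comp_zero]
    rw [← cancel_mono ((augRes hS' Q').isoLeftDerivedObj F (i + 1)).hom, zero_comp]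
    exact h3
  rw [homologyMap_eq_zero_iff _ (i + 2) (i + 1) i (by simp) (by simp)]
  intro z hz
  cases i with
  | zero =>
    rw [homologyMap_eq_zero_iff _ 1 0 0 (by simp) (by simp)] at h1'
    obtain ⟨w, hw⟩ := h1' z (by simp)
    exact ⟨w, hw⟩
  | succ i =>
    rw [homologyMap_eq_zero_iff _ (i + 2) (i + 1) i (by simp) (by simp)] at h1'
    obtain ⟨w, hw⟩ := h1' z hz
    exact ⟨w, hw⟩

end main

end DimShift

end Groth.Agent.Lib.Helper16
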